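import Cfsg.Agent.Suzuki.HeOut.Local
import Cfsg.Prelude.Def_KGroupFacts

/-!
The outer automorphism group of the presented Held group has order two
-/

set_option autoImplicit false
set_option maxRecDepth 100000

namespace Cfsg.Agent.Suzuki.HeOut

open Cfsg.Agent.Screen.CosetEnum Cfsg.Agent.FGS2.He Cfsg.Agent.Suzuki.HeCent Cfsg.Agent.Linear.TransvCentTwo

local notation "Q" => Cfsg.Spor.He
local notation "S5" => Matrix.SpecialLinearGroup (Fin (3 + 2)) (ZMod 2)
local notation "Cz" => Subgroup.centralizer ({z₀ (ZMod 2) 3} : Set S5)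

theorem out_invol : (List.range 7).all (fun x => eqB ((outW x).map outW).flatten [x]) = true := by decide +kernel

/-- The second generator. -/
def yB : Cz := el2 yPart

theorem kE_cons (x : ℕ) (l : List ℕ) : kE (x :: l) = kE [x] * kE l := kE_append [x] l

theorem kE_single (x : ℕ) : kE [x] = PresHe.gens x := one_mul _

/-- Letters, for automorphisms. -/
theorem map_sub (f : MulAut Q) (hcard : Nat.card Q = 4030387200) {wu wy wg wu' wy' wg' : List ℕ}
    (hu : f (kE wu) = kE wu') (hy : f (kE wy) = kE wy') (hg : f (kE wg) = kE wg') :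
    ∀ l : List ℕ, (∀ x ∈ l, x < 3) → f (kE (sub wu wy wg l)) = kE (sub wu' wy' wg' l)
  | [], _ => by rw [sub, sub, List.map_nil, List.map_nil, List.flatten_nil, kE_nil, map_one]
  | x :: l, h => by
    have ih := map_sub f hcard hu hy hg l fun y hy' => h y (List.mem_cons_of_mem _ hy')
    have hx := h x List.mem_cons_self
    simp only [sub, List.map_cons, List.flatten_cons, kE_append, map_mul] at ih ⊢
    interval_cases x <;> simp [hu, hy, hg, ih]

theorem kE_reverse : ∀ w : List ℕ, kE w.reverse = (kE w)⁻¹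
  | [] => by rw [List.reverse_nil, kE_nil, inv_one]
  | x :: w => by
    rw [List.reverse_cons, kE_append, kE_reverse w, kE_cons x w, mul_inv_rev, kE_single]
    rw [inv_eq_of_mul_eq_one_right (PresHe.gens_sq x)]

theorem map_sub' (f : MulAut Q) {wu wy wg wu' wy' wg' : List ℕ}
    (hu : f (kE wu) = kE wu') (hy : f (kE wy) = kE wy') (hg : f (kE wg) = kE wg') :
    ∀ l : List ℕ, f (kE (sub wu wy wg l)) = kE (sub wu' wy' wg' l)
  | [] => by rw [sub, sub, List.map_nil, List.map_nil, List.flatten_nil, kE_nil, map_one]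
  | x :: l => by
    have ih := map_sub' f hu hy hg l
    simp only [sub, List.map_cons, List.flatten_cons, kE_append, map_mul] at ih ⊢
    rcases x with _ | _ | _ | x <;> simp [hu, hy, hg, kE_reverse, ih]

/-- An automorphism with prescribed values at the three generators. -/
def HasTriple (s : Bool) (f : MulAut Q) : Prop :=
  f (kE (uW true)) = kE (uW s) ∧ f (kE (yW true)) = kE (yW s) ∧ f (kE gWord) = kE (gImg s)

theorem uC_val (E : Emb) (s : Bool) : E.φ (uC s) = kE (uW s) := by cases s <;> exact E.val _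

theorem yC_val (E : Emb) (s : Bool) : E.φ (yC s) = kE (yW s) := by cases s <;> exact E.val _

theorem vC_val (E : Emb) (s : Bool) : E.φ (vC s) = kE (wordP (if s then vP else vM)) := by
  cases s <;> exact E.val _

theorem wC_val (E : Emb) (s : Bool) : E.φ (wC s) = kE (wordP (if s then wP else wM)) := by
  cases s <;> exact E.val _

theorem yB_eq : yB = yC true := ((rep_el2 _).eq_iff (rep_yC true)).2 exp_vw_base.2.2

/-- The restriction of an automorphism fixing the involution. -/
theorem exists_restrict (E : Emb) (f : MulAut Q) (hf : f (kE [4]) = kE [4]) :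
    ∃ β : Cz →* Cz, Function.Injective β ∧ ∀ x, E.φ (β x) = f (E.φ x) := by
  have h : ∀ x, ∃ y, E.φ y = f (E.φ x) := fun x => E.surj _ (by
    rw [← hf, ← map_mul, ← map_mul, E.cent])
  choose β hβ using h
  refine ⟨MonoidHom.mk' β fun x y => E.inj ?_, fun x y e => E.inj (f.injective ?_), hβ⟩
  · rw [map_mul, hβ, hβ, hβ, map_mul, map_mul]
  · rw [← hβ, ← hβ]
    exact congrArg E.φ e

theorem expC_map (β : Cz →* Cz) (a b : Cz) : ∀ l, β (expC a b l) = expC (β a) (β b) l
  | [] => map_one β
  | x :: l => by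
    unfold expC
    rw [map_mul, expC_map β a b l]
    split_ifs <;> rfl

/-- The fingerprint is invariant. -/
theorem fp_transfer {β : Cz →* Cz} (hβ : Function.Injective β) {x : Cz} {n : ℕ} {s : Bool}
    (hu : β (uC true) = uC s) (hx : Rep (β x) n) {m : ℕ} (hm : Rep x m) (h : fpOK m true = true) :
    fpOK n s = true := by
  have key : ∀ a j, powN (mulN n (powN (uN s) a)) j = oneN ↔ powN (mulN m (powN (uN true) a)) j = oneN := by
    intro a j
    have h1 : Rep (β ((x * uC true ^ a) ^ j)) (powN (mulN n (powN (uN s) a)) j) := by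
      rw [map_pow, map_mul, map_pow, hu]
      exact (hx.mul ((rep_uC s).pow a)).pow j
    have h2 : Rep ((x * uC true ^ a) ^ j) (powN (mulN m (powN (uN true) a)) j) :=
      (hm.mul ((rep_uC true).pow a)).pow j
    rw [← h1.eq_iff rep_one, ← h2.eq_iff rep_one]
    exact map_eq_one_iff β hβ
  simp only [fpOK, List.all_eq_true, Bool.and_eq_true, Bool.or_eq_true, Bool.not_eq_true'] at h ⊢
  intro t ht
  obtain ⟨a1, a2⟩ := h t ht
  refine ⟨?_, fun j hj => (a2 j hj).imp id fun hj' => ?_⟩
  · rw [(key t.1 t.2).2 (Nat.eq_of_beq_eq_true a1)]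
    exact Nat.beq_refl _
  · cases hc : Nat.beq (powN (mulN n (powN (uN s) t.1)) j) oneN with
    | false => rfl
    | true =>
      rw [(key t.1 j).1 (Nat.eq_of_beq_eq_true hc), show Nat.beq oneN oneN = true from Nat.beq_refl _] at hj'
      exact absurd hj' (by simp)

theorem y_class : (invEntry (codeP yPart)).map (fun e => (classD e.2.2.2).2.1) = some false := by decide +kernel

/-- Every automorphism agrees with one of two, up to inner ones. -/
theorem exists_normal (hcard : Nat.card Q = 4030387200) (f : MulAut Q) :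
    ∃ (s : Bool) (c : Q), HasTriple s (MulAut.conj c * f) := by
  obtain ⟨E⟩ := exists_emb hcard
  -- fix the involution
  obtain ⟨c0, h0⟩ := aut_four hcard E f
  set f1 := MulAut.conj c0 * f with hf1
  have e1 : f1 (kE [4]) = kE [4] := h0
  obtain ⟨β1, i1, v1'⟩ := exists_restrict E f1 e1
  -- normalise the element of order seven
  obtain ⟨p7, pne, -⟩ := u_facts true
  have hu7 : uC true ^ 7 = 1 := (((rep_uC true).pow 7).eq_iff rep_one).2 p7
  have hu1 : uC true ≠ 1 := fun e => pne (((rep_uC true).eq_iff rep_one).1 e)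
  obtain ⟨s, m1, hm1⟩ := seven_conj E (x := β1 (uC true)) (by rw [← map_pow, hu7, map_one])
    (fun e => hu1 ((map_eq_one_iff β1 i1).1 e))
  set f2 := MulAut.conj (E.φ m1) * f1 with hf2
  have e2 : f2 (kE [4]) = kE [4] := by
    show E.φ m1 * f1 (kE [4]) * (E.φ m1)⁻¹ = _
    rw [e1, E.cent, mul_inv_cancel_right]
  obtain ⟨β2, i2, v2'⟩ := exists_restrict E f2 e2
  have hu2 : β2 (uC true) = uC s := E.inj (by
    rw [v2', ← hm1, map_mul, map_mul, map_inv, v1']; rfl)
  -- the image of the second generator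
  obtain ⟨hfp, hy2, hy1⟩ := fp_base
  have yy : yB * yB = 1 := (((rep_el2 _).mul (rep_el2 _)).eq_iff rep_one).2 hy2
  have y1 : yB ≠ 1 := fun e => hy1 (((rep_el2 _).eq_iff rep_one).1 e)
  obtain ⟨ey, hey, hry⟩ := exists_entry yy y1
  have hflag : (classD ey.2.2.2).2.1 = false := by
    have := y_class
    rw [Option.map_eq_some_iff] at this
    obtain ⟨e', he', hf'⟩ := this
    obtain ⟨he1, he2⟩ := invEntry_spec he'
    have r' : Rep yB e'.1 := he2 ▸ rep_el2 _
    have := entry_conj hcard E he1 r'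
    rw [hf', if_neg (by simp)] at this
    cases hb : (classD ey.2.2.2).2.1 with
    | false => rfl
    | true =>
      have h' := entry_conj hcard E hey hry
      rw [hb, if_pos rfl] at h'
      obtain ⟨d, hd⟩ := isConj_iff.1 (h'.trans this.symm)
      exact absurd hd (not_conj_zero hcard E (MulAut.conj d))
  have hyc : IsConj (kE [4]) (E.φ yB) := by
    have := entry_conj hcard E hey hry
    rwa [hflag, if_neg (by simp)] at this
  obtain ⟨e', he', hre⟩ := exists_entry (x := β2 yB) (by rw [← map_mul, yy, map_one])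
    (fun e => y1 ((map_eq_one_iff β2 i2).1 e))
  have hfe : fpOK e'.1 s = true := fp_transfer i2 hu2 hre (rep_el2 _) hfp
  have hA : (classD e'.2.2.2).2.1 = false := by
    cases hb : (classD e'.2.2.2).2.1 with
    | false => rfl
    | true =>
      have h' := entry_conj hcard E he' hre
      rw [hb, if_pos rfl, v2'] at h'
      have h4 : IsConj (f2 (kE [4])) (f2 (E.φ yB)) := f2.toMonoidHom.map_isConj hyc
      rw [e2] at h4
      obtain ⟨d, hd⟩ := isConj_iff.1 (h'.trans h4.symm)
      exact absurd hd (not_conj_zero hcard E (MulAut.conj d))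
  have hcov := List.all_eq_true.1 (fp_cover_ok s) e' he'
  simp only [fpCover, hA, hfe, Bool.not_true, Bool.false_or, List.any_eq_true] at hcov
  obtain ⟨i, -, hi⟩ := hcov
  have hyi : β2 yB * uC s ^ i = uC s ^ i * yC s :=
    ((hre.mul ((rep_uC s).pow i)).eq_iff (((rep_uC s).pow i).mul (rep_yC s))).2 (Nat.eq_of_beq_eq_true hi)
  set m2 := (uC s ^ i)⁻¹
  set f3 := MulAut.conj (E.φ m2) * f2 with hf3
  have e3 : f3 (kE [4]) = kE [4] := by
    show E.φ m2 * f2 (kE [4]) * (E.φ m2)⁻¹ = _
    rw [e2, E.cent, mul_inv_cancel_right]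
  obtain ⟨β3, i3, v3'⟩ := exists_restrict E f3 e3
  have hu3 : β3 (uC true) = uC s := E.inj (by
    rw [v3']
    show E.φ m2 * f2 (E.φ (uC true)) * (E.φ m2)⁻¹ = _
    rw [← v2', hu2, ← map_inv, ← map_mul, ← map_mul]
    refine congrArg E.φ ?_
    show (uC s ^ i)⁻¹ * uC s * ((uC s ^ i)⁻¹)⁻¹ = uC s
    rw [inv_inv, mul_assoc, ← pow_succ', pow_succ, inv_mul_cancel_left])
  have hy3 : β3 (yC true) = yC s := E.inj (by
    rw [v3', ← yB_eq]
    show E.φ m2 * f2 (E.φ yB) * (E.φ m2)⁻¹ = _
    rw [← v2', ← map_inv, ← map_mul, ← map_mul]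
    refine congrArg E.φ ?_
    show (uC s ^ i)⁻¹ * β2 yB * ((uC s ^ i)⁻¹)⁻¹ = yC s
    rw [inv_inv, mul_assoc, hyi, inv_mul_cancel_left])
  -- the image of the third generator
  have hv : β3 (el2 vPart) = vC s := by
    have hb : el2 vPart = expC (uC true) (yC true) vExp :=
      ((rep_el2 _).eq_iff (rep_expC (rep_uC true) (rep_yC true) vExp)).2
        (by rw [← exp_vw_base.2.2, exp_vw_base.1])
    rw [hb, expC_map, hu3, hy3]
    exact ((rep_expC (rep_uC s) (rep_yC s) vExp).eq_iff (rep_vC s)).2 (exp_vw s).1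
  have hw : β3 (el2 wPart) = wC s := by
    have hb : el2 wPart = expC (uC true) (yC true) wExp :=
      ((rep_el2 _).eq_iff (rep_expC (rep_uC true) (rep_yC true) wExp)).2
        (by rw [← exp_vw_base.2.2, exp_vw_base.2.1])
    rw [hb, expC_map, hu3, hy3]
    exact ((rep_expC (rep_uC s) (rep_yC s) wExp).eq_iff (rep_wC s)).2 (exp_vw s).2
  have g1 := kE_eq hcard g_conj.1
  have g2 := kE_eq hcard g_conj.2
  have s1 := kE_eq hcard (gS_conj s).1
  have s2 := kE_eq hcard (gS_conj s).2
  simp only [kE_append, ← E.val] at g1 g2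
  simp only [kE_append, ← vC_val E, ← wC_val E] at s1 s2
  replace g1 := congrArg f3 g1
  replace g2 := congrArg f3 g2
  rw [map_mul, map_mul, e3, ← v3', hv] at g1
  rw [map_mul, map_mul, e3, ← v3', hw] at g2
  have t1 : (kE (gS s))⁻¹ * E.φ (vC s) = kE [4] * (kE (gS s))⁻¹ := by
    rw [eq_mul_inv_iff_mul_eq, mul_assoc, inv_mul_eq_iff_eq_mul, ← s1]
  obtain ⟨n, hn⟩ := E.surj ((kE (gS s))⁻¹ * f3 (kE gWord)) (by
    rw [mul_assoc, g1, ← mul_assoc, t1, mul_assoc])
  have t2 : E.φ n * E.φ (wC s) = E.φ (wC s) * E.φ n := by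
    rw [hn, mul_assoc, ← g2, ← mul_assoc, ← mul_assoc]
    refine congrArg (· * f3 (kE gWord)) ?_
    rw [inv_mul_eq_iff_eq_mul, ← mul_assoc, ← s2, mul_inv_cancel_right]
  rw [← map_mul, ← map_mul] at t2
  replace t2 := E.inj t2
  obtain ⟨q, k, hnq⟩ := exists_code n
  have ekk : nK ((q : ℕ) + 128 * kC k) = kC k := by unfold nK; have := q.isLt; omega
  have ec := ((hnq.mul (rep_wC s)).eq_iff ((rep_wC s).mul hnq)).1 t2
  have eK := congrArg nK ec
  rw [nK_mulN _ (rep_wC s).1, nK_mulN _ hnq.1, ekk] at eK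
  have hcov := cent_cover_ok s k
  simp only [centCover, eK, Nat.beq_refl, Bool.not_true, Bool.false_or, List.all_eq_true] at hcov
  have hq := hcov q (List.mem_finRange q)
  rw [show Nat.beq (mulN ((q : ℕ) + 128 * kC k) (wN s)) (mulN (wN s) ((q : ℕ) + 128 * kC k)) = true by
    rw [ec]; exact Nat.beq_refl _] at hq
  simp only [Bool.not_true, Bool.false_or, List.contains_iff_mem, List.mem_map] at hq
  obtain ⟨pair, hpair, hcode⟩ := hq
  obtain ⟨j, hj, rfl⟩ := List.mem_iff_getElem.1 hpair
  have hnj : n = el2 (centL s)[j] := (hnq.eq_iff (rep_el2 _)).2 hcode.symm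
  have hg : f3 (kE gWord) = kE (gS s ++ wordP ((centL s).getD j (0, 0))) := by
    rw [kE_append, List.getD_eq_getElem _ _ hj, ← E.val, ← hnj, hn, mul_inv_cancel_left]
  have hu : f3 (kE (uW true)) = kE (uW s) := by rw [← uC_val E, ← v3', hu3, uC_val E]
  have hy : f3 (kE (yW true)) = kE (yW s) := by rw [← yC_val E, ← v3', hy3, yC_val E]
  have hc : candOK s j = true := by
    have hj' : j < 128 := cent_length s ▸ hj
    cases s
    · exact List.all_eq_true.1 cand_ok_neg j (List.mem_range.2 hj')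
    · exact List.all_eq_true.1 cand_ok_pos j (List.mem_range.2 hj')
  simp only [candOK, Bool.or_eq_true, List.any_eq_true] at hc
  rcases hc with (hc | hc) | ⟨r, hr, hne⟩
  · refine ⟨s, E.φ m2 * (E.φ m1 * c0), ?_⟩
    rw [show MulAut.conj (E.φ m2 * (E.φ m1 * c0)) * f = f3 by
      rw [map_mul, map_mul, hf3, hf2, hf1]; simp only [mul_assoc]]
    exact ⟨hu, hy, by rw [hg, gImg, Nat.eq_of_beq_eq_true hc]⟩
  · refine ⟨s, kE [4] * (E.φ m2 * (E.φ m1 * c0)), ?_⟩
    rw [show MulAut.conj (kE [4] * (E.φ m2 * (E.φ m1 * c0))) * f = MulAut.conj (kE [4]) * f3 by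
      rw [map_mul, map_mul, map_mul, hf3, hf2, hf1]; simp only [mul_assoc]]
    refine ⟨?_, ?_, ?_⟩
    · show kE [4] * f3 (kE (uW true)) * (kE [4])⁻¹ = _
      rw [hu, ← uC_val E, ← E.cent, mul_inv_cancel_right]
    · show kE [4] * f3 (kE (yW true)) * (kE [4])⁻¹ = _
      rw [hy, ← yC_val E, ← E.cent, mul_inv_cancel_right]
    · show kE [4] * f3 (kE gWord) * (kE [4])⁻¹ = _
      have h4 : (kE [4])⁻¹ = kE [4] := by rw [← kE_reverse]; rfl
      rw [h4, hg, Nat.eq_of_beq_eq_true hc, ← kE_append, ← kE_append]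
      exact kE_eq hcard (good_conj s)
  · refine absurd ?_ (kE_ne hne)
    have hl : ∀ x ∈ r.1, x < 3 := fun x hx => by
      have := List.all_eq_true.1 (List.all_eq_true.1 rel_letters r hr) x hx
      simpa [Nat.blt_eq] using this
    have hb := kE_eq hcard (List.all_eq_true.1 rel_base r hr)
    rw [kE_nil, kE_rep] at hb
    rw [kE_nil, kE_rep, ← map_sub f3 hcard hu hy hg r.1 hl, ← map_pow, hb, map_one]

theorem triple_unique (hcard : Nat.card Q = 4030387200) {s : Bool} {f f' : MulAut Q} (h : HasTriple s f)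
    (h' : HasTriple s f') : f = f' := by
  have hlet : ∀ x : Fin 7, f (kE [(x : ℕ)]) = f' (kE [(x : ℕ)]) := by
    intro x
    rcases letters_all x with rfl | hx
    · rw [show kE [((3 : Fin 7) : ℕ)] = kE (sub (uW true) (yW true) gWord dExp) from kE_eq hcard d_ok,
        map_sub' f h.1 h.2.1 h.2.2, map_sub' f' h'.1 h'.2.1 h'.2.2]
    · obtain ⟨p, hp, hpx⟩ := List.any_eq_true.1 hx
      have hok := List.all_eq_true.1 letters_ok p hp
      simp only [Bool.and_eq_true] at hok
      rw [← Nat.eq_of_beq_eq_true hpx, kE_eq hcard hok.2, map_sub' f h.1 h.2.1 h.2.2,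
        map_sub' f' h'.1 h'.2.1 h'.2.2]
  refine MulEquiv.toMonoidHom_injective ?_
  refine MonoidHom.eq_of_eqOn_dense PresHe.gens_top ?_
  rintro _ ⟨n, rfl⟩
  by_cases hn : n < 7
  · have := hlet ⟨n, hn⟩
    rwa [kE_single] at this
  · show f (PresHe.gens n) = f' (PresHe.gens n)
    rw [PresHe.gens_out n (Nat.le_of_not_lt hn), map_one, map_one]

/-- The outer automorphism. -/
theorem exists_outer (hcard : Nat.card Q = 4030387200) :
    ∃ f : MulAut Q, f (kE [4]) = kE [4] ∧ f (kE (uW true)) = kE (uW false) := by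
  obtain ⟨φ, hφ⟩ := PresHe.exists_hom (fun x => if x < 7 then kE (outW x) else 1)
    (fun x => by
      split_ifs with hx
      · exact (kE_append _ _).symm.trans (kE_one hcard (List.all_eq_true.1 out_sq x (List.mem_range.2 hx)))
      · exact one_mul 1)
    (fun w hw => by
      have hl : ∀ x ∈ w, x < 7 := by
        have : PresHe.relList.all (fun v => v.all fun x => Nat.blt x 7) = true := by decide +kernel
        intro x hx
        have := List.all_eq_true.1 (List.all_eq_true.1 this w hw) x hx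
        simpa [Nat.blt_eq] using this
      have key : ∀ v : List ℕ, (∀ x ∈ v, x < 7) →
          evalW (fun x => if x < 7 then kE (outW x) else 1) v = kE (v.reverse.map outW).flatten := by
        intro v
        induction v with
        | nil => intro; rfl
        | cons a v ih =>
          intro hv
          rw [List.reverse_cons, List.map_append, List.flatten_append, kE_append, ← ih fun x hx =>
            hv x (List.mem_cons_of_mem _ hx)]
          simp [evalW, hv a List.mem_cons_self]
      rw [key w hl]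
      exact kE_one hcard (List.all_eq_true.1 out_rel w hw))
  have hφw : ∀ w : List ℕ, (∀ x ∈ w, x < 7) → φ (kE w) = kE (w.map outW).flatten := by
    intro w
    induction w with
    | nil => intro; rw [kE_nil, map_one]; exact kE_nil.symm
    | cons a w ih =>
      intro hw
      have ha := hw a List.mem_cons_self
      rw [kE_cons, map_mul, ih fun x hx => hw x (List.mem_cons_of_mem _ hx), List.map_cons, List.flatten_cons,
        kE_append, kE_single, hφ a ha, if_pos ha]
  have hinv : φ.comp φ = MonoidHom.id Q := by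
    refine MonoidHom.eq_of_eqOn_dense PresHe.gens_top ?_
    rintro _ ⟨n, rfl⟩
    by_cases hn : n < 7
    · show φ (φ (PresHe.gens n)) = PresHe.gens n
      have hl : ∀ x : Fin 7, ∀ y ∈ outW x, y < 7 := by decide +kernel
      rw [hφ n hn, if_pos hn, hφw _ (hl ⟨n, hn⟩),
        kE_eq hcard (List.all_eq_true.1 out_invol n (List.mem_range.2 hn)), kE_single]
    · show φ (φ (PresHe.gens n)) = PresHe.gens n
      rw [PresHe.gens_out n (Nat.le_of_not_lt hn), map_one, map_one]
  refine ⟨MonoidHom.toMulEquiv φ φ hinv hinv, ?_, ?_⟩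
  · show φ (kE [4]) = kE [4]
    rw [kE_single, hφ 4 (by norm_num), if_pos (by norm_num), ← kE_single]
    exact kE_eq hcard out_u.2
  · show φ (kE (uW true)) = _
    rw [hφw _ (by decide +kernel)]
    exact kE_eq hcard out_u.1

theorem card_out (hcard : Nat.card Q = 4030387200) : Nat.card (Cfsg.Out Q) = 2 := by
  classical
  let F : Bool → Cfsg.Out Q := fun s =>
    if h : ∃ f, HasTriple s f then (h.choose : Cfsg.Out Q) else 1
  have hsurj : Function.Surjective F := by
    intro q
    obtain ⟨f, rfl⟩ := QuotientGroup.mk_surjective q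
    obtain ⟨s, c, h⟩ := exists_normal hcard f
    refine ⟨s, ?_⟩
    have hex : ∃ f, HasTriple s f := ⟨_, h⟩
    simp only [F, dif_pos hex]
    rw [triple_unique hcard hex.choose_spec h, QuotientGroup.mk_mul,
      (QuotientGroup.eq_one_iff _).2 (MonoidHom.mem_range.2 ⟨c, rfl⟩), one_mul]
  haveI : Finite (Cfsg.Out Q) := Finite.of_surjective F hsurj
  refine le_antisymm ((Nat.card_le_card_of_surjective F hsurj).trans (by simp)) ?_
  obtain ⟨E⟩ := exists_emb hcard
  obtain ⟨f, hf4, hfu⟩ := exists_outer hcard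
  haveI : Nontrivial (Cfsg.Out Q) := by
    refine ⟨⟨(f : Cfsg.Out Q), 1, fun e => ?_⟩⟩
    obtain ⟨c, hc⟩ := MonoidHom.mem_range.1 ((QuotientGroup.eq_one_iff f).1 e)
    rw [← hc, MulAut.conj_apply, mul_inv_eq_iff_eq_mul] at hf4 hfu
    obtain ⟨x, rfl⟩ := E.surj c hf4
    rw [← uC_val E, ← uC_val E, ← map_mul, ← map_mul] at hfu
    exact not_invert x (E.inj hfu)
  exact Finite.one_lt_card

end Cfsg.Agent.Suzuki.HeOut
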