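import Cfsg.Agent.Suzuki.HeOut.Code

/-!
Finite checks in the centraliser of a transvection
-/

set_option autoImplicit false
set_option maxRecDepth 100000

namespace Cfsg.Agent.Suzuki.HeOut

open Cfsg.Agent.Screen.CosetEnum Cfsg.Agent.FGS2.He Cfsg.Agent.Suzuki.HeCent

/-- A pair of indices. -/
def pq (x : ℕ × ℕ) : Fin 128 × Fin 168 :=
  (⟨x.1 % 128, Nat.mod_lt _ (by norm_num)⟩, ⟨x.2 % 168, Nat.mod_lt _ (by norm_num)⟩)

/-- The code of a pair. -/
def codeP (x : ℕ × ℕ) : ℕ := partN (pq x).1 (pq x).2

/-- The word of a pair. -/
def wordP (x : ℕ × ℕ) : List ℕ := eWords.getD (pq x).1 [] ++ lWords.getD (pq x).2 []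

/-- The data of a class. -/
def classD (c : ℕ) : (ℕ × ℕ) × Bool × List ℕ := classTab.getD c ((0, 0), false, [])

/-- The entry of an involution. -/
def invEntry (n : ℕ) : Option (ℕ × ℕ × ℕ × ℕ) := invTab.find? fun e => Nat.beq e.1 n

/-- An entry moves an involution to the representative of its class. -/
def entryOK (e : ℕ × ℕ × ℕ × ℕ) : Bool :=
  Nat.beq (mulN (codeP (e.2.1, e.2.2.1)) e.1) (mulN (codeP (classD e.2.2.2).1) (codeP (e.2.1, e.2.2.1))) &&
    Nat.blt e.2.2.2 classTab.length

theorem entries_ok : invTab.all entryOK = true := by decide +kernel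

/-- All involutions with a given block are listed. -/
def invCover (k : Fin 168) : Bool :=
  !(Nat.beq (mulK (kC k) (kC k)) 273) || (List.finRange 128).all fun q : Fin 128 =>
    let n := (q : ℕ) + 128 * kC k
    !(Nat.beq (mulN n n) oneN) || Nat.beq n oneN || (invEntry n).isSome

theorem inv_cover_ok : ∀ k, invCover k = true := by decide +kernel

theorem nK_mulN_mod : ∀ k : Fin 168, nK (128 * kC k) = kC k := by decide +kernel

/-- The conjugating relation of a class. -/
def classOK (d : (ℕ × ℕ) × Bool × List ℕ) : Bool :=
  eqB (d.2.2 ++ [if d.2.1 then 0 else 4]) (wordP d.1 ++ d.2.2)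

theorem classes_ok : classTab.all classOK = true := by decide +kernel

/-- The code of the element of order seven, for each sign. -/
def uN (s : Bool) : ℕ := if s then codeP uPart else codeP uInvPart

/-- The code of the image of the second generator. -/
def yN (s : Bool) : ℕ := if s then codeP yP else codeP yM

/-- The code of the image of the conjugate. -/
def vN (s : Bool) : ℕ := if s then codeP vP else codeP vM

/-- The code of the image of the inverse conjugate. -/
def wN (s : Bool) : ℕ := if s then codeP wP else codeP wM

/-- The word of an element with the same conjugates as the third generator. -/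
def gS (s : Bool) : List ℕ := if s then gP else gM

/-- The centraliser list. -/
def centL (s : Bool) : List (ℕ × ℕ) := if s then centTabP else centTabM

/-- The admissible index. -/
def goodI (s : Bool) : ℕ × ℕ := if s then goodP else goodM

/-- The word of the element of order seven, for each sign. -/
def uW (s : Bool) : List ℕ := if s then wordP uPart else wordP uInvPart

/-- The word of the image of the second generator. -/
def yW (s : Bool) : List ℕ := if s then wordP yP else wordP yM

theorem u_facts : ∀ s, powN (uN s) 7 = oneN ∧ uN s ≠ oneN ∧ mulN (uN s) (uN (!s)) = oneN ∧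
    powN (uN true) 6 = uN false ∧
    mulN (codeP sevenNorm) (uN true) = mulN (powN (uN true) 2) (codeP sevenNorm) := by decide +kernel

/-- The fingerprint test with base `y`. -/
def fpOK (n : ℕ) (s : Bool) : Bool :=
  fpTab.all fun t => Nat.beq (powN (mulN n (powN (uN s) t.1)) t.2) oneN &&
    (List.range t.2).all fun j => Nat.beq j 0 || !(Nat.beq (powN (mulN n (powN (uN s) t.1)) j) oneN)

theorem fp_base : fpOK (codeP yPart) true = true ∧ mulN (codeP yPart) (codeP yPart) = oneN ∧
    codeP yPart ≠ oneN := by decide +kernel

/-- Only the conjugates of the admissible image pass the fingerprint test. -/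
def fpCover (s : Bool) (e : ℕ × ℕ × ℕ × ℕ) : Bool :=
  (classD e.2.2.2).2.1 || !(fpOK e.1 s) || (List.range 7).any fun i =>
    Nat.beq (mulN e.1 (powN (uN s) i)) (mulN (powN (uN s) i) (yN s))

theorem fp_cover_ok : ∀ s, invTab.all (fpCover s) = true := by decide +kernel

/-- The centraliser of the conjugate is listed. -/
def centCover (s : Bool) (k : Fin 168) : Bool :=
  !(Nat.beq (mulK (kC k) (nK (wN s))) (mulK (nK (wN s)) (kC k))) || (List.finRange 128).all fun q : Fin 128 =>
    let n := (q : ℕ) + 128 * kC k
    !(Nat.beq (mulN n (wN s)) (mulN (wN s) n)) || ((centL s).map codeP).contains n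

theorem cent_cover_ok : ∀ s k, centCover s k = true := by decide +kernel

/-- Evaluation of an expression in two codes. -/
def expN (a b : ℕ) : List ℕ → ℕ
  | [] => oneN
  | x :: l => mulN (if x = 0 then a else b) (expN a b l)

theorem exp_vw : ∀ s, expN (uN s) (yN s) vExp = vN s ∧ expN (uN s) (yN s) wExp = wN s := by decide +kernel

theorem exp_vw_base : expN (uN true) (codeP yPart) vExp = codeP vPart ∧
    expN (uN true) (codeP yPart) wExp = codeP wPart ∧ codeP yPart = yN true := by decide +kernel

/-- The substitution of words for the generators. -/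
def sub (wu wy wg : List ℕ) (l : List ℕ) : List ℕ :=
  (l.map fun x => match x with | 0 => wu | 1 => wy | 2 => wg | _ => wg.reverse).flatten

theorem g_conj : eqB (gWord ++ [4]) (wordP vPart ++ gWord) = true ∧ eqB ([4] ++ gWord) (gWord ++ wordP wPart) = true := by
  decide +kernel

theorem gS_conj : ∀ s, eqB (gS s ++ [4]) (wordP (if s then vP else vM) ++ gS s) = true ∧
    eqB ([4] ++ gS s) (gS s ++ wordP (if s then wP else wM)) = true := by decide +kernel

theorem rel_base : relTab.all (fun r => eqB (List.replicate r.2 (sub (uW true) (yW true) gWord r.1)).flatten []) = true := by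
  decide +kernel

theorem rel_letters : relTab.all (fun r => r.1.all fun x => Nat.blt x 3) = true := by decide +kernel

/-- A candidate either is admissible or fails one of the relations. -/
def candOK (s : Bool) (i : ℕ) : Bool :=
  let w := gS s ++ wordP ((centL s).getD i (0, 0))
  Nat.beq i (goodI s).1 || Nat.beq i (goodI s).2 ||
    relTab.any fun r => neB (List.replicate r.2 (sub (uW s) (yW s) w r.1)).flatten []

theorem cand_ok_pos : (List.range 128).all (candOK true) = true := by decide +kernel

theorem cand_ok_neg : (List.range 128).all (candOK false) = true := by decide +kernel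

theorem cent_length : ∀ s, (centL s).length = 128 := by decide +kernel

/-- The admissible image of the third generator. -/
def gImg (s : Bool) : List ℕ := gS s ++ wordP ((centL s).getD (goodI s).1 (0, 0))

theorem good_conj : ∀ s, eqB ([4] ++ (gS s ++ wordP ((centL s).getD (goodI s).2 (0, 0))) ++ [4]) (gImg s) = true := by
  decide +kernel

theorem letters_ok : letterExp.all (fun p => Nat.blt p.1 7 && p.2.all (fun x => Nat.blt x 2) &&
    eqB [p.1] (sub (uW true) (yW true) gWord p.2)) = true := by decide +kernel

theorem letters_all : ∀ x : Fin 7, x = 3 ∨ letterExp.any (fun p => Nat.beq p.1 x) = true := by decide +kernel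

theorem d_ok : eqB [3] (sub (uW true) (yW true) gWord dExp) = true := by decide +kernel

/-- The image of a letter under the outer automorphism. -/
def outW (x : ℕ) : List ℕ := outWords.getD x []

theorem out_sq : (List.range 7).all (fun x => eqB (outW x ++ outW x) []) = true := by decide +kernel

theorem out_rel : PresHe.relList.all (fun w => eqB (w.reverse.map outW).flatten []) = true := by decide +kernel

theorem out_u : eqB ((uW true).map outW).flatten (uW false) = true ∧ eqB (outW 4) [4] = true := by decide +kernel

/-- No element of the centraliser inverts the element of order seven. -/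
theorem no_invert : ∀ k : Fin 168, mulK (kC k) (nK (uN true)) ≠ mulK (nK (uN false)) (kC k) := by decide +kernel

end Cfsg.Agent.Suzuki.HeOut
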