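import Cfsg.Agent.Suzuki.HeCent.Main
import Cfsg.Agent.Suzuki.HeOut.Data

/-!
Packed arithmetic in the centraliser of a transvection of `SL₅(2)`
-/

set_option autoImplicit false
set_option maxRecDepth 100000

namespace Cfsg.Agent.Suzuki.HeOut

open Cfsg.Agent.Linear.TransvCentTwo Cfsg.Agent.Suzuki.HeCent Matrix

local notation "S5" => Matrix.SpecialLinearGroup (Fin (3 + 2)) (ZMod 2)
local notation "Cz" => Subgroup.centralizer ({z₀ (ZMod 2) 3} : Set S5)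

/-- The vector of three bits. -/
def vec (x : ℕ) (i : Fin 3) : ZMod 2 := if Nat.testBit x i then 1 else 0

/-- A row of a packed matrix. -/
def rowN (K i : ℕ) : ℕ := K / 2 ^ (3 * i) % 8

/-- The matrix of nine bits. -/
def kd (K : ℕ) : Matrix (Fin 3) (Fin 3) (ZMod 2) := Matrix.of fun i j => vec (rowN K i) j

/-- Parity of three bits. -/
def par3 (x : ℕ) : ℕ := (x + x / 2 + x / 4) % 2

/-- Row vector times matrix. -/
def vmN (a K : ℕ) : ℕ :=
  (if a.testBit 0 then rowN K 0 else 0) ^^^ (if a.testBit 1 then rowN K 1 else 0) ^^^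
    (if a.testBit 2 then rowN K 2 else 0)

/-- Matrix times column vector. -/
def mvN (K b : ℕ) : ℕ := par3 (rowN K 0 &&& b) + 2 * par3 (rowN K 1 &&& b) + 4 * par3 (rowN K 2 &&& b)

/-- Product of packed matrices. -/
def mulK (K L : ℕ) : ℕ := vmN (rowN K 0) L + 8 * vmN (rowN K 1) L + 64 * vmN (rowN K 2) L

/-- The corner. -/
def nc (n : ℕ) : ℕ := n % 2
/-- The row. -/
def na (n : ℕ) : ℕ := n / 2 % 8
/-- The column. -/
def nb (n : ℕ) : ℕ := n / 16 % 8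
/-- The block. -/
def nK (n : ℕ) : ℕ := n / 128

/-- Product of packed elements. -/
def mulN (n m : ℕ) : ℕ :=
  (nc n + nc m + par3 (na n &&& nb m)) % 2 + 2 * (na m ^^^ vmN (na n) (nK m)) +
    16 * (nb n ^^^ mvN (nK n) (nb m)) + 128 * mulK (nK n) (nK m)

/-- The packed identity. -/
def oneN : ℕ := 128 * 273

/-- Powers. -/
def powN (n : ℕ) : ℕ → ℕ
  | 0 => oneN
  | j + 1 => mulN n (powN n j)

/-- The matrix of a packed element. -/
def decN (n : ℕ) : Matrix (Fin (3 + 2)) (Fin (3 + 2)) (ZMod 2) :=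
  M (nc n : ZMod 2) (vec (na n)) (vec (nb n)) (kd (nK n))

theorem vm_check : ∀ a : Fin 8, ∀ K : Fin 512,
    vmN a K < 8 ∧ vec (vmN a K) = vec a ᵥ* kd K ∧ mvN K a < 8 ∧ vec (mvN K a) = kd K *ᵥ vec a := by decide +kernel

theorem small_check : ∀ a b : Fin 8, (a : ℕ) ^^^ b < 8 ∧ vec ((a : ℕ) ^^^ b) = vec a + vec b ∧
    (par3 ((a : ℕ) &&& b) : ZMod 2) = vec a ⬝ᵥ vec b ∧ (vec a = vec b → a = b) := by decide +kernel

theorem rowN_lt (K i : ℕ) : rowN K i < 8 := Nat.mod_lt _ (by norm_num)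

theorem na_lt (n : ℕ) : na n < 8 := Nat.mod_lt _ (by norm_num)
theorem nb_lt (n : ℕ) : nb n < 8 := Nat.mod_lt _ (by norm_num)
theorem nK_lt {n : ℕ} (h : n < 65536) : nK n < 512 := by unfold nK; omega

theorem vm_spec {a K : ℕ} (ha : a < 8) (hK : K < 512) :
    vmN a K < 8 ∧ vec (vmN a K) = vec a ᵥ* kd K := ⟨(vm_check ⟨a, ha⟩ ⟨K, hK⟩).1, (vm_check ⟨a, ha⟩ ⟨K, hK⟩).2.1⟩

theorem mv_spec {a K : ℕ} (ha : a < 8) (hK : K < 512) :
    mvN K a < 8 ∧ vec (mvN K a) = kd K *ᵥ vec a := (vm_check ⟨a, ha⟩ ⟨K, hK⟩).2.2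

theorem xor_spec {a b : ℕ} (ha : a < 8) (hb : b < 8) : a ^^^ b < 8 ∧ vec (a ^^^ b) = vec a + vec b :=
  ⟨(small_check ⟨a, ha⟩ ⟨b, hb⟩).1, (small_check ⟨a, ha⟩ ⟨b, hb⟩).2.1⟩

theorem dot_spec {a b : ℕ} (ha : a < 8) (hb : b < 8) : (par3 (a &&& b) : ZMod 2) = vec a ⬝ᵥ vec b :=
  (small_check ⟨a, ha⟩ ⟨b, hb⟩).2.2.1

theorem rowN_pack {x y z : ℕ} (hx : x < 8) (hy : y < 8) (hz : z < 8) :
    rowN (x + 8 * y + 64 * z) 0 = x ∧ rowN (x + 8 * y + 64 * z) 1 = y ∧ rowN (x + 8 * y + 64 * z) 2 = z := by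
  refine ⟨?_, ?_, ?_⟩ <;> unfold rowN <;> norm_num <;> omega

theorem mulK_spec (K : ℕ) {L : ℕ} (hL : L < 512) : mulK K L < 512 ∧ kd (mulK K L) = kd K * kd L := by
  have hr : ∀ i, vmN (rowN K i) L < 8 ∧ vec (vmN (rowN K i) L) = vec (rowN K i) ᵥ* kd L :=
    fun i => vm_spec (rowN_lt K i) hL
  obtain ⟨h0, h1, h2⟩ := rowN_pack (hr 0).1 (hr 1).1 (hr 2).1
  refine ⟨?_, ?_⟩
  · have := (hr 0).1; have := (hr 1).1; have := (hr 2).1; unfold mulK; omega
  · ext i j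
    rw [Matrix.mul_apply_eq_vecMul]
    show vec (rowN (mulK K L) i) j = (vec (rowN K i) ᵥ* kd L) j
    rw [← (hr i).2]
    unfold mulK
    fin_cases i
    · exact congrArg (fun r => vec r j) h0
    · exact congrArg (fun r => vec r j) h1
    · exact congrArg (fun r => vec r j) h2

theorem mulN_spec {n m : ℕ} (hn : n < 65536) (hm : m < 65536) :
    mulN n m < 65536 ∧ decN (mulN n m) = decN n * decN m := by
  obtain ⟨v1, v2⟩ := vm_spec (na_lt n) (nK_lt hm)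
  obtain ⟨w1, w2⟩ := mv_spec (nb_lt m) (nK_lt hn)
  obtain ⟨x1, x2⟩ := xor_spec (na_lt m) v1
  obtain ⟨y1, y2⟩ := xor_spec (nb_lt n) w1
  obtain ⟨k1, k2⟩ := mulK_spec (nK n) (nK_lt hm)
  have hC : (nc n + nc m + par3 (na n &&& nb m)) % 2 < 2 := Nat.mod_lt _ (by norm_num)
  set C := (nc n + nc m + par3 (na n &&& nb m)) % 2 with hCdef
  set A := na m ^^^ vmN (na n) (nK m) with hAdef
  set B := nb n ^^^ mvN (nK n) (nb m) with hBdef
  set K := mulK (nK n) (nK m) with hKdef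
  have e : mulN n m = C + 2 * A + 16 * B + 128 * K := rfl
  have e1 : nc (mulN n m) = C := by rw [e]; unfold nc; omega
  have e2 : na (mulN n m) = A := by rw [e]; unfold na; omega
  have e3 : nb (mulN n m) = B := by rw [e]; unfold nb; omega
  have e4 : nK (mulN n m) = K := by rw [e]; unfold nK; omega
  refine ⟨by rw [e]; omega, ?_⟩
  rw [decN, e1, e2, e3, e4, decN, decN, M_mul, x2, v2, y2, w2, k2, hCdef, ZMod.natCast_mod, Nat.cast_add,
    Nat.cast_add, dot_spec (na_lt n) (nb_lt m)]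

theorem oneN_spec : oneN < 65536 ∧ decN oneN = 1 := ⟨by decide +kernel, by decide +kernel⟩

theorem decN_inj {n m : ℕ} (hn : n < 65536) (hm : m < 65536) (h : decN n = decN m) : n = m := by
  obtain ⟨h1, h2, h3, h4⟩ := M_inj h
  have ha : na n = na m := congrArg Fin.val ((small_check ⟨_, na_lt n⟩ ⟨_, na_lt m⟩).2.2.2 h2)
  have hb : nb n = nb m := congrArg Fin.val ((small_check ⟨_, nb_lt n⟩ ⟨_, nb_lt m⟩).2.2.2 h3)
  have hr : ∀ i : Fin 3, rowN (nK n) i = rowN (nK m) i := fun i =>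
    congrArg Fin.val ((small_check ⟨_, rowN_lt _ i⟩ ⟨_, rowN_lt _ i⟩).2.2.2 (congrFun h4 i))
  have hc : nc n = nc m := by
    have hc' : ∀ a b : Fin 2, ((a : ℕ) : ZMod 2) = ((b : ℕ) : ZMod 2) → (a : ℕ) = b := by decide
    exact hc' ⟨nc n, Nat.mod_lt _ (by norm_num)⟩ ⟨nc m, Nat.mod_lt _ (by norm_num)⟩ h1
  have r0 := hr 0
  have r1 := hr 1
  have r2 := hr 2
  have hKn := nK_lt hn
  have hKm := nK_lt hm
  simp only [rowN] at r0 r1 r2
  norm_num at r0 r1 r2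
  unfold nK at hKn hKm r0 r1 r2
  unfold na at ha
  unfold nb at hb
  unfold nc at hc
  omega

/-- A packed element stands for an element of the centraliser. -/
def Rep (x : Cz) (n : ℕ) : Prop := n < 65536 ∧ ((x : S5) : Matrix (Fin (3 + 2)) (Fin (3 + 2)) (ZMod 2)) = decN n

theorem Rep.mul {x y : Cz} {n m : ℕ} (hx : Rep x n) (hy : Rep y m) : Rep (x * y) (mulN n m) := by
  obtain ⟨h1, h2⟩ := mulN_spec hx.1 hy.1
  exact ⟨h1, by rw [h2, ← hx.2, ← hy.2]; rfl⟩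

theorem rep_one : Rep 1 oneN := ⟨oneN_spec.1, oneN_spec.2.symm⟩

theorem Rep.pow {x : Cz} {n : ℕ} (hx : Rep x n) : ∀ j, Rep (x ^ j) (powN n j)
  | 0 => by rw [pow_zero]; exact rep_one
  | j + 1 => by rw [pow_succ']; exact hx.mul (hx.pow j)

theorem Rep.unique {x : Cz} {n m : ℕ} (h : Rep x n) (h' : Rep x m) : n = m :=
  decN_inj h.1 h'.1 (h.2.symm.trans h'.2)

theorem Rep.eq_iff {x y : Cz} {n m : ℕ} (hx : Rep x n) (hy : Rep y m) : x = y ↔ n = m := by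
  refine ⟨fun e => hx.unique (e ▸ hy), fun e => ?_⟩
  subst e
  exact Subtype.ext (Subtype.ext (hx.2.trans hy.2.symm))

/-- The element of a pair of indices. -/
def part (p : Fin 128) (k : Fin 168) : Cz := ⟨eMat p * lMat k, mul_mem (eMat_mem_cent p) (lMat_mem_cent k)⟩

/-- The code of a block. -/
def kC (k : Fin 168) : ℕ := kCode.getD k 0

/-- The code of a pair of indices. -/
def partN (p : Fin 128) (k : Fin 168) : ℕ := mulN ((p : ℕ) + 128 * 273) (128 * kC k)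

theorem eMat_code : ∀ p : Fin 128, (p : ℕ) + 128 * 273 < 65536 ∧ cP p = (nc (p + 128 * 273) : ZMod 2) ∧
    aP p = vec (na (p + 128 * 273)) ∧ bP p = vec (nb (p + 128 * 273)) ∧ nK (p + 128 * 273) = 273 := by decide +kernel

theorem lMat_code : ∀ k : Fin 168, kC k < 512 ∧ kMat k = kd (kC k) := by decide +kernel

theorem kd_one : kd 273 = 1 ∧ vec 0 = 0 := by decide +kernel

theorem rep_eMat (p : Fin 128) : Rep ⟨eMat p, eMat_mem_cent p⟩ ((p : ℕ) + 128 * 273) := by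
  obtain ⟨h0, h1, h2, h3, h4⟩ := eMat_code p
  refine ⟨h0, ?_⟩
  show M (cP p) (aP p) (bP p) 1 = decN _
  rw [decN, h1, h2, h3, h4, kd_one.1]

theorem rep_lMat (k : Fin 168) : Rep ⟨lMat k, lMat_mem_cent k⟩ (128 * kC k) := by
  obtain ⟨h0, h1⟩ := lMat_code k
  refine ⟨by omega, ?_⟩
  show M 0 0 0 (kMat k) = decN _
  rw [decN, show nc (128 * kC k) = 0 by unfold nc; omega, show na (128 * kC k) = 0 by unfold na; omega,
    show nb (128 * kC k) = 0 by unfold nb; omega, show nK (128 * kC k) = kC k by unfold nK; omega,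
    kd_one.2, h1, Nat.cast_zero]

theorem rep_part (p : Fin 128) (k : Fin 168) : Rep (part p k) (partN p k) := (rep_eMat p).mul (rep_lMat k)

theorem exists_code (x : Cz) : ∃ (q : Fin 128) (k : Fin 168), Rep x ((q : ℕ) + 128 * kC k) := by
  obtain ⟨c, a, b, K, e⟩ := exists_el (ZMod.card 2) (x : S5) x.2
  obtain ⟨k, rfl⟩ := kSL_bijective.2 K
  obtain ⟨q, h1, h2, h3⟩ := eMat_surj c a b
  obtain ⟨hk0, hk1⟩ := lMat_code k
  obtain ⟨-, g1, g2, g3, -⟩ := eMat_code q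
  refine ⟨q, k, by have := q.isLt; omega, ?_⟩
  rw [e]
  show M c a b (kMat k) = decN _
  rw [← h1, ← h2, ← h3, decN, g1, g2, g3, hk1]
  congr 2 <;> (simp only [nc, na, nb, nK]; omega)

end Cfsg.Agent.Suzuki.HeOut

namespace Cfsg.Agent.Suzuki.HeOut

open Cfsg.Agent.Linear.TransvCentTwo

theorem nK_mulN (n : ℕ) {m : ℕ} (hm : m < 65536) : nK (mulN n m) = mulK (nK n) (nK m) := by
  obtain ⟨x1, -⟩ := xor_spec (na_lt m) (vm_spec (na_lt n) (nK_lt hm)).1
  have hw : mvN (nK n) (nb m) < 8 := by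
    have : ∀ x, par3 x < 2 := fun x => Nat.mod_lt _ (by norm_num)
    have := this (rowN (nK n) 0 &&& nb m); have := this
    unfold mvN
    have a0 : par3 (rowN (nK n) 0 &&& nb m) < 2 := Nat.mod_lt _ (by norm_num)
    have a1 : par3 (rowN (nK n) 1 &&& nb m) < 2 := Nat.mod_lt _ (by norm_num)
    have a2 : par3 (rowN (nK n) 2 &&& nb m) < 2 := Nat.mod_lt _ (by norm_num)
    omega
  obtain ⟨y1, -⟩ := xor_spec (nb_lt n) hw
  have hC : (nc n + nc m + par3 (na n &&& nb m)) % 2 < 2 := Nat.mod_lt _ (by norm_num)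
  show mulN n m / 128 = _
  unfold mulN
  omega

end Cfsg.Agent.Suzuki.HeOut
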