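import Cfsg.Agent.Suzuki.HeOut.Checks
import Cfsg.Agent.FGS2.J2.SchurTwoClass

/-!
Involutions and elements of order seven in the centraliser of an involution of the presented Held group
-/

set_option autoImplicit false
set_option maxRecDepth 100000

namespace Cfsg.Agent.Suzuki.HeOut

open Cfsg.Agent.Screen.CosetEnum Cfsg.Agent.FGS2.He Cfsg.Agent.Suzuki.HeCent Cfsg.Agent.Linear.TransvCentTwo

local notation "Q" => Cfsg.Spor.He
local notation "S5" => Matrix.SpecialLinearGroup (Fin (3 + 2)) (ZMod 2)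
local notation "Cz" => Subgroup.centralizer ({z₀ (ZMod 2) 3} : Set S5)

/-- The element of a pair. -/
def el2 (x : ℕ × ℕ) : Cz := part (pq x).1 (pq x).2

theorem rep_el2 (x : ℕ × ℕ) : Rep (el2 x) (codeP x) := rep_part _ _

/-- The element of order seven, for each sign. -/
def uC (s : Bool) : Cz := if s then el2 uPart else el2 uInvPart

/-- The image of the second generator. -/
def yC (s : Bool) : Cz := if s then el2 yP else el2 yM

/-- The image of the conjugate. -/
def vC (s : Bool) : Cz := if s then el2 vP else el2 vM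

/-- The image of the inverse conjugate. -/
def wC (s : Bool) : Cz := if s then el2 wP else el2 wM

theorem rep_uC (s : Bool) : Rep (uC s) (uN s) := by cases s <;> exact rep_el2 _
theorem rep_yC (s : Bool) : Rep (yC s) (yN s) := by cases s <;> exact rep_el2 _
theorem rep_vC (s : Bool) : Rep (vC s) (vN s) := by cases s <;> exact rep_el2 _
theorem rep_wC (s : Bool) : Rep (wC s) (wN s) := by cases s <;> exact rep_el2 _

/-- Evaluation of an expression. -/
def expC (a b : Cz) : List ℕ → Cz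
  | [] => 1
  | x :: l => (if x = 0 then a else b) * expC a b l

theorem rep_expC {a b : Cz} {m n : ℕ} (ha : Rep a m) (hb : Rep b n) : ∀ l, Rep (expC a b l) (expN m n l)
  | [] => rep_one
  | x :: l => by
    unfold expC expN
    split_ifs
    · exact ha.mul (rep_expC ha hb l)
    · exact hb.mul (rep_expC ha hb l)

/-- An injection of the centraliser of the transvection onto the centraliser of the involution. -/
structure Emb where
  /-- The map. -/
  φ : Cz →* Q
  inj : Function.Injective φ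
  val : ∀ x, φ (el2 x) = kE (wordP x)
  cent : ∀ x, φ x * kE [4] = kE [4] * φ x
  surj : ∀ g : Q, g * kE [4] = kE [4] * g → ∃ x, φ x = g
  card : Nat.card Cz = 21504

theorem exists_emb (hcard : Nat.card Q = 4030387200) : Nonempty Emb := by
  haveI : Finite Q := Nat.finite_of_card_ne_zero (by rw [hcard]; norm_num)
  obtain ⟨φ, hinj, hz, hv⟩ := exists_embedding hcard
  have hC : ∀ m, φ m ∈ Subgroup.centralizer ({kE [4]} : Set Q) := fun m => by
    rw [Subgroup.mem_centralizer_singleton_iff, ← hz, ← map_mul, ← map_mul]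
    exact congrArg φ (Subtype.ext (Subgroup.mem_centralizer_singleton_iff.1 m.2))
  have hinj' : Function.Injective (φ.codRestrict _ hC) := fun a b e => hinj (congrArg Subtype.val e :)
  have hle := Nat.card_le_card_of_injective _ hinj'
  have hb : Function.Bijective (φ.codRestrict _ hC) := (Nat.bijective_iff_injective_and_card _).2
    ⟨hinj', le_antisymm hle ((card_cent_le hcard).trans card_transv_cent)⟩
  refine ⟨⟨φ, hinj, fun x => ?_, fun x => Subgroup.mem_centralizer_singleton_iff.1 (hC x), fun g hg => ?_,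
    le_antisymm (hle.trans (card_cent_le hcard)) card_transv_cent⟩⟩
  · rw [el2]
    exact (hv _ _).trans (kE_append _ _).symm
  · obtain ⟨x, hx⟩ := hb.2 ⟨g, Subgroup.mem_centralizer_singleton_iff.2 hg⟩
    exact ⟨x, congrArg Subtype.val hx⟩

theorem invEntry_spec {n : ℕ} {e : ℕ × ℕ × ℕ × ℕ} (h : invEntry n = some e) : e ∈ invTab ∧ e.1 = n := by
  unfold invEntry at h
  exact ⟨List.mem_of_find?_eq_some h, Nat.eq_of_beq_eq_true (by have := List.find?_some h; exact this)⟩

/-- Every involution of the centraliser is listed. -/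
theorem exists_entry {x : Cz} (h2 : x * x = 1) (h1 : x ≠ 1) : ∃ e ∈ invTab, Rep x e.1 := by
  obtain ⟨q, k, hx⟩ := exists_code x
  set n := (q : ℕ) + 128 * kC k with hn
  have e2 : mulN n n = oneN := (hx.mul hx).unique (h2.symm ▸ rep_one)
  have ek : nK n = kC k := by rw [hn]; unfold nK; have := q.isLt; omega
  have eK : mulK (kC k) (kC k) = 273 := by
    rw [← ek, ← nK_mulN n hx.1, e2]
    rfl
  have h := inv_cover_ok k
  simp only [invCover, eK, Nat.beq_refl, Bool.not_true, Bool.false_or, List.all_eq_true, Bool.or_eq_true] at h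
  have hne : n ≠ oneN := fun e => h1 ((hx.eq_iff rep_one).2 e)
  rcases h q (List.mem_finRange q) with (h' | h') | h'
  · rw [show Nat.beq (mulN ((q : ℕ) + 128 * kC k) ((q : ℕ) + 128 * kC k)) oneN = true by
      rw [← hn, e2]; exact Nat.beq_refl _] at h'
    exact absurd h' (by simp)
  · exact absurd (Nat.eq_of_beq_eq_true h') hne
  · obtain ⟨e, he⟩ := Option.isSome_iff_exists.1 h'
    obtain ⟨he1, he2⟩ := invEntry_spec he
    exact ⟨e, he1, by rw [he2]; exact hx⟩

/-- An entry gives the class in the Held group. -/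
theorem entry_conj (hcard : Nat.card Q = 4030387200) (E : Emb) {x : Cz} {e : ℕ × ℕ × ℕ × ℕ} (he : e ∈ invTab) (hx : Rep x e.1) :
    IsConj (kE [if (classD e.2.2.2).2.1 then 0 else 4]) (E.φ x) := by
  have h := List.all_eq_true.1 entries_ok e he
  simp only [entryOK, Bool.and_eq_true, Nat.blt_eq] at h
  set m := el2 (e.2.1, e.2.2.1)
  set r := el2 (classD e.2.2.2).1
  have hm : m * x = r * m :=
    (((rep_el2 _).mul hx).eq_iff ((rep_el2 _).mul (rep_el2 _))).2 (Nat.eq_of_beq_eq_true h.1)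
  have hd : classD e.2.2.2 ∈ classTab := by
    rw [classD, List.getD_eq_getElem _ _ h.2]
    exact List.getElem_mem _
  have hc := kE_eq hcard (List.all_eq_true.1 classes_ok _ hd)
  rw [kE_append, kE_append, ← E.val] at hc
  have h1 : IsConj (kE [if (classD e.2.2.2).2.1 then 0 else 4]) (E.φ r) :=
    isConj_iff.2 ⟨_, mul_inv_eq_iff_eq_mul.2 hc⟩
  refine h1.trans (isConj_iff.2 ⟨(E.φ m)⁻¹, ?_⟩)
  rw [inv_inv, mul_assoc, ← map_mul, ← hm, map_mul, inv_mul_cancel_left]

theorem card_cent_map {G : Type*} [Group G] (f : MulAut G) (x : G) :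
    Nat.card (Subgroup.centralizer ({f x} : Set G)) = Nat.card (Subgroup.centralizer ({x} : Set G)) := by
  refine (Nat.card_congr (Equiv.subtypeEquiv f.toEquiv fun g => ?_)).symm
  simp only [Subgroup.mem_centralizer_singleton_iff]
  show g * x = x * g ↔ f g * f x = f x * f g
  rw [← map_mul, ← map_mul, f.injective.eq_iff]

theorem card_cent_four (E : Emb) : Nat.card (Subgroup.centralizer ({kE [4]} : Set Q)) = 21504 := by
  rw [← E.card]
  refine (Nat.card_congr (Equiv.ofBijective
    (fun x => (⟨E.φ x, Subgroup.mem_centralizer_singleton_iff.2 (E.cent x)⟩ : Subgroup.centralizer ({kE [4]} : Set Q)))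
    ⟨fun a b e => E.inj (congrArg Subtype.val e), fun g => ?_⟩)).symm
  obtain ⟨x, hx⟩ := E.surj g.1 (Subgroup.mem_centralizer_singleton_iff.1 g.2)
  exact ⟨x, Subtype.ext hx⟩

theorem five_words : eqB ([2, 3, 2, 3] ++ [0]) ([0] ++ [2, 3, 2, 3]) = true ∧
    eqB (List.replicate 5 [2, 3, 2, 3]).flatten [] = true ∧ neB [2, 3, 2, 3] [] = true := by decide +kernel

/-- The other class of involutions has a larger centraliser. -/
theorem not_conj_zero (hcard : Nat.card Q = 4030387200) (E : Emb) (f : MulAut Q) : f (kE [0]) ≠ kE [4] := by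
  intro h
  haveI : Finite Q := Nat.finite_of_card_ne_zero (by rw [hcard]; norm_num)
  have hc := card_cent_map f (kE [0])
  rw [h, card_cent_four E] at hc
  have hg : kE [2, 3, 2, 3] ∈ Subgroup.centralizer ({kE [0]} : Set Q) := by
    rw [Subgroup.mem_centralizer_singleton_iff, ← kE_append, ← kE_append]
    exact kE_eq hcard five_words.1
  haveI := Fact.mk (by norm_num : Nat.Prime 5)
  have ho : orderOf (kE [2, 3, 2, 3]) = 5 := orderOf_eq_prime
    (by rw [← kE_rep]; exact kE_one hcard five_words.2.1) fun e => kE_ne five_words.2.2 (e.trans kE_nil.symm)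
  have hd := orderOf_dvd_natCard (⟨_, hg⟩ : Subgroup.centralizer ({kE [0]} : Set Q))
  rw [Subgroup.orderOf_mk, ho, ← hc] at hd
  exact absurd hd (by norm_num)

theorem four_ne : neB [4] [] = true ∧ eqB ([4] ++ [4]) [] = true := by decide +kernel

/-- Every involution is in one of two classes. -/
theorem involution_class (hcard : Nat.card Q = 4030387200) (E : Emb) {t : Q} (h2 : t * t = 1) (h1 : t ≠ 1) :
    IsConj (kE [4]) t ∨ IsConj (kE [0]) t := by
  haveI : Finite Q := Nat.finite_of_card_ne_zero (by rw [hcard]; norm_num)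
  haveI : Finite Cz := Nat.finite_of_card_ne_zero (by rw [E.card]; norm_num)
  haveI : Fact (Nat.Prime 2) := ⟨Nat.prime_two⟩
  obtain ⟨P⟩ : Nonempty (Sylow 2 Cz) := inferInstance
  have hR : Nat.card ((P : Subgroup Cz).map E.φ) = 2 ^ 10 := by
    rw [← Nat.card_congr ((P : Subgroup Cz).equivMapOfInjective E.φ E.inj).toEquiv]
    exact FGS2.J2.SchurTwoClass.sylow_card E.card Nat.prime_two (by norm_num) (by norm_num) P
  obtain ⟨S, hS⟩ := (IsPGroup.of_card hR).exists_le_sylow
  have hS' : (S : Subgroup Q) = (P : Subgroup Cz).map E.φ := (Subgroup.eq_of_le_of_card_ge hS (by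
    rw [hR, FGS2.J2.SchurTwoClass.sylow_card hcard Nat.prime_two (k := 10) (by norm_num) (by norm_num) S])).symm
  have ho : orderOf t = 2 := orderOf_eq_prime (by rw [pow_two, h2]) h1
  obtain ⟨T, hT⟩ := (IsPGroup.of_card (n := 1) (by rw [Nat.card_zpowers, ho, pow_one]) :
    IsPGroup 2 (Subgroup.zpowers t)).exists_le_sylow
  obtain ⟨g, rfl⟩ := MulAction.exists_smul_eq Q S T
  have ht := hT (Subgroup.mem_zpowers t)
  rw [Sylow.coe_subgroup_smul, Subgroup.mem_pointwise_smul_iff_inv_smul_mem, hS'] at ht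
  obtain ⟨x, -, hx⟩ := ht
  have hx' : E.φ x = g⁻¹ * t * g := by
    rw [hx, ← map_inv]
    show MulAut.conj g⁻¹ t = _
    simp
  have x2 : x * x = 1 := E.inj (by rw [map_mul, map_one, hx']; simp [mul_assoc, h2, ← mul_assoc t t])
  have x1 : x ≠ 1 := fun e => h1 (by
    have := hx'
    rw [e, map_one] at this
    calc t = g * (g⁻¹ * t * g) * g⁻¹ := by group
      _ = 1 := by rw [← this]; group)
  obtain ⟨e, he, hr⟩ := exists_entry x2 x1
  have hc : IsConj (kE [if (classD e.2.2.2).2.1 then 0 else 4]) t :=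
    (entry_conj hcard E he hr).trans (isConj_iff.2 ⟨g, by rw [hx']; group⟩)
  cases hb : (classD e.2.2.2).2.1 with
  | true => rw [hb, if_pos rfl] at hc; exact Or.inr hc
  | false => rw [hb, if_neg (by simp)] at hc; exact Or.inl hc

/-- An automorphism moves the involution to a conjugate. -/
theorem aut_four (hcard : Nat.card Q = 4030387200) (E : Emb) (f : MulAut Q) :
    ∃ c : Q, MulAut.conj c (f (kE [4])) = kE [4] := by
  have e2 : kE [4] * kE [4] = 1 := (kE_append _ _).symm.trans (kE_one hcard four_ne.2)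
  have h2 : f (kE [4]) * f (kE [4]) = 1 := by rw [← map_mul, e2, map_one]
  have h1 : f (kE [4]) ≠ 1 := fun e => kE_ne four_ne.1
    ((f.injective (e.trans (map_one f).symm)).trans kE_nil.symm)
  rcases involution_class hcard E h2 h1 with h | h
  · obtain ⟨c, hc⟩ := isConj_iff.1 h
    refine ⟨c⁻¹, ?_⟩
    rw [MulAut.conj_apply, inv_inv, ← hc]
    group
  · obtain ⟨c, hc⟩ := isConj_iff.1 h
    exact absurd (show ((MulAut.conj c).trans f.symm) (kE [0]) = kE [4] by
      show f.symm (c * kE [0] * c⁻¹) = _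
      rw [hc]; exact f.symm_apply_apply _) (not_conj_zero hcard E _)

theorem not_invert (x : Cz) : x * uC true ≠ uC false * x := by
  intro h
  obtain ⟨q, k, hx⟩ := exists_code x
  have e := ((hx.mul (rep_uC true)).eq_iff ((rep_uC false).mul hx)).1 h
  have e' := congrArg nK e
  rw [nK_mulN _ (rep_uC true).1, nK_mulN _ hx.1,
    show nK ((q : ℕ) + 128 * kC k) = kC k by unfold nK; have := q.isLt; omega] at e'
  exact no_invert k e'

/-- An element of order seven is conjugate to one of two. -/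
theorem seven_conj (E : Emb) {x : Cz} (h7 : x ^ 7 = 1) (h1 : x ≠ 1) : ∃ (s : Bool) (m : Cz), m * x * m⁻¹ = uC s := by
  haveI : Finite Cz := Nat.finite_of_card_ne_zero (by rw [E.card]; norm_num)
  haveI : Fact (Nat.Prime 7) := ⟨by norm_num⟩
  obtain ⟨f1, f2, f3, f4, f5⟩ := u_facts true
  have hu7 : uC true ^ 7 = 1 := (((rep_uC true).pow 7).eq_iff rep_one).2 f1
  have hu1 : uC true ≠ 1 := fun e => f2 (((rep_uC true).eq_iff rep_one).1 e)
  have ht : el2 sevenNorm * uC true = uC true ^ 2 * el2 sevenNorm :=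
    (((rep_el2 _).mul (rep_uC true)).eq_iff (((rep_uC true).pow 2).mul (rep_el2 _))).2 f5
  have hinv : uC true ^ 6 = uC false := (((rep_uC true).pow 6).eq_iff (rep_uC false)).2 f4
  have key : ∀ y : Cz, y ^ 7 = 1 → y ≠ 1 → ∃ P : Sylow 7 Cz, (P : Subgroup Cz) = Subgroup.zpowers y := by
    intro y y7 y1
    have ho : orderOf y = 7 := orderOf_eq_prime y7 y1
    obtain ⟨P, hP⟩ := (IsPGroup.of_card (n := 1) (by rw [Nat.card_zpowers, ho, pow_one]) :
      IsPGroup 7 (Subgroup.zpowers y)).exists_le_sylow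
    refine ⟨P, (Subgroup.eq_of_le_of_card_ge hP ?_).symm⟩
    rw [Nat.card_zpowers, ho, FGS2.J2.SchurTwoClass.sylow_card E.card (by norm_num : Nat.Prime 7) (k := 1)
      (by norm_num) (by norm_num) P, pow_one]
  obtain ⟨P, hP⟩ := key x h7 h1
  obtain ⟨P', hP'⟩ := key _ hu7 hu1
  obtain ⟨g, hg⟩ := MulAction.exists_smul_eq Cz P P'
  have hmem : MulAut.conj g x ∈ Subgroup.zpowers (uC true) := by
    rw [← hP', ← hg, Sylow.coe_subgroup_smul, hP]
    exact Subgroup.smul_mem_pointwise_smul _ _ _ (Subgroup.mem_zpowers x)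
  obtain ⟨i, hi, e⟩ : ∃ i, i < 7 ∧ uC true ^ i = MulAut.conj g x := by
    obtain ⟨i, hi⟩ := (isOfFinOrder_of_finite (uC true)).mem_powers_iff_mem_zpowers.2 hmem
    exact ⟨i % 7, Nat.mod_lt _ (by norm_num), by rw [← pow_eq_pow_mod i hu7]; exact hi⟩
  set t := el2 sevenNorm
  have hdbl : ∀ j, t * uC true ^ j * t⁻¹ = uC true ^ (2 * j) := fun j => by
    rw [← conj_pow, mul_inv_eq_iff_eq_mul.2 ht, ← pow_mul]
  have hconj : ∀ j, uC true ^ (2 * j % 7) = t * uC true ^ j * t⁻¹ := fun j => by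
    rw [hdbl, ← pow_eq_pow_mod _ hu7]
  have he : MulAut.conj g x = g * x * g⁻¹ := rfl
  rw [he] at e
  interval_cases i
  · exact absurd (show x = 1 by
      calc x = g⁻¹ * (g * x * g⁻¹) * g := by group
        _ = 1 := by rw [← e]; simp) h1
  · exact ⟨true, g, by rw [← e, pow_one]⟩
  · refine ⟨true, t⁻¹ * g, ?_⟩
    calc t⁻¹ * g * x * (t⁻¹ * g)⁻¹ = t⁻¹ * (g * x * g⁻¹) * t := by group
      _ = t⁻¹ * (t * uC true ^ 1 * t⁻¹) * t := by rw [← e, hdbl]
      _ = uC true := by group
  · refine ⟨false, t⁻¹ * t⁻¹ * g, ?_⟩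
    calc t⁻¹ * t⁻¹ * g * x * (t⁻¹ * t⁻¹ * g)⁻¹ = t⁻¹ * t⁻¹ * (g * x * g⁻¹) * t * t := by simp only [mul_inv_rev, inv_inv, mul_assoc]
      _ = t⁻¹ * t⁻¹ * (t * (t * uC true ^ 6 * t⁻¹) * t⁻¹) * t * t := by
        rw [← e, ← hconj 6, hdbl, pow_eq_pow_mod (2 * (2 * 6 % 7)) hu7]
      _ = uC true ^ 6 := by group
      _ = uC false := hinv
  · refine ⟨true, t⁻¹ * t⁻¹ * g, ?_⟩
    calc t⁻¹ * t⁻¹ * g * x * (t⁻¹ * t⁻¹ * g)⁻¹ = t⁻¹ * t⁻¹ * (g * x * g⁻¹) * t * t := by simp only [mul_inv_rev, inv_inv, mul_assoc]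
      _ = t⁻¹ * t⁻¹ * (t * (t * uC true ^ 1 * t⁻¹) * t⁻¹) * t * t := by rw [← e, hdbl, hdbl]
      _ = uC true := by group
  · refine ⟨false, t⁻¹ * g, ?_⟩
    calc t⁻¹ * g * x * (t⁻¹ * g)⁻¹ = t⁻¹ * (g * x * g⁻¹) * t := by group
      _ = t⁻¹ * (t * uC true ^ 6 * t⁻¹) * t := by rw [← e, ← hconj 6]
      _ = uC true ^ 6 := by group
      _ = uC false := hinv
  · exact ⟨false, g, by rw [← e, hinv]⟩

end Cfsg.Agent.Suzuki.HeOut
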